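import Cfsg.Agent.H1.D4.Lin

/-!
# S4311, box C1: four components are impossible in dimension `8` (helper1)
-/

set_option autoImplicit false

namespace Cfsg.Agent.H1.D4

open Module

variable {F : Type*} [Field F] {V : Type*} [AddCommGroup V] [Module F V] {G : Type*} [Group G] {X : Type*} [Group X]
  {ρ : Representation F G V} {π : G →* X}

theorem two_zero (h2 : (2 : F) ≠ 0) {v : V} (h : v = -v) : v = 0 := by
  have h1 : (2 : F) • v = 0 := by rw [two_smul]; nth_rewrite 2 [h]; exact add_neg_cancel v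
  exact (smul_eq_zero.1 h1).resolve_left h2

/-- the `-1`-eigenspace of an involution in a perfect group has even dimension -/
theorem even_of_perfect [FiniteDimensional F V] (h2 : (2 : F) ≠ 0) {K : Subgroup G} {U W : Submodule F V}
    (hp : K ≤ ⁅K, K⁆) (hU : Iv ρ K U) {y : G} (hy : y ∈ K) (hyy : ∀ u ∈ U, ρ y (ρ y u) = u)
    (hW : ∀ v, v ∈ W ↔ v ∈ U ∧ ρ y v = -v) : Even (finrank F W) := by
  obtain ⟨e, he⟩ : ∃ e, e = rst ρ K U hU ⟨y, hy⟩ := ⟨_, rfl⟩
  have hea : ∀ u : U, ((e u : U) : V) = ρ y u := fun u => by rw [he]; rfl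
  have hd : LinearMap.det e = 1 := by rw [he]; exact det_rst hp hU _
  let W' : Submodule F U := W.comap U.subtype
  have hW' : ∀ u : U, u ∈ W' ↔ ρ y u = -(u : V) := fun u => by
    change (u : V) ∈ W ↔ _
    rw [hW]; exact ⟨fun h => h.2, fun h => ⟨u.2, h⟩⟩
  have hcomap : W' ≤ W'.comap e := fun u hu => by
    rw [Submodule.mem_comap, hW', hea]
    have h1 := (hW' u).1 hu
    rw [h1, map_neg, h1]
  have h1 := LinearMap.det_eq_det_mul_det W' e hcomap
  have h3 : LinearMap.restrict (p := W') (q := W') e (fun x hx => hcomap hx) = -1 := by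
    ext u
    change ((e (u : U) : U) : V) = -((u : U) : V)
    rw [hea]
    exact (hW' u).1 u.2
  have h4 : W'.mapQ W' e hcomap = 1 := by
    apply LinearMap.ext
    intro q
    obtain ⟨u, rfl⟩ := Submodule.Quotient.mk_surjective _ q
    rw [Submodule.mapQ_apply, Module.End.one_apply, Submodule.Quotient.eq, hW']
    change ρ y (((e u : U) : V) - u) = -(((e u : U) : V) - u)
    rw [hea, map_sub, hyy u u.2]
    abel
  rw [h3, h4, hd, map_one, mul_one] at h1
  have h5 : LinearMap.det (-1 : W' →ₗ[F] W') = (-1) ^ finrank F W' := by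
    have : (-1 : W' →ₗ[F] W') = (-1 : F) • (1 : W' →ₗ[F] W') := by
      apply LinearMap.ext
      intro u
      rw [LinearMap.smul_apply, LinearMap.neg_apply, Module.End.one_apply, neg_smul, one_smul]
    rw [this, LinearMap.det_smul, map_one, mul_one]
  rw [h5] at h1
  have h6 : finrank F W' = finrank F W := by
    have hle : W ≤ U := fun v hv => ((hW v).1 hv).1
    exact (Submodule.comapSubtypeEquivOfLe hle).finrank_eq
  rw [← h6]
  by_contra hodd
  rw [Nat.not_even_iff_odd] at hodd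
  rw [hodd.neg_one_pow] at h1
  apply h2
  linear_combination h1

section

variable {K : Fin 4 → Subgroup G} {y : Fin 4 → G}

/-- joint eigenspaces -/
def RR (ρ : Representation F G V) (y : Fin 4 → G) (P M : Finset (Fin 4)) : Submodule F V where
  carrier := {v | (∀ i ∈ P, ρ (y i) v = v) ∧ ∀ i ∈ M, ρ (y i) v = -v}
  add_mem' := by
    rintro a b ⟨ha, ha'⟩ ⟨hb, hb'⟩
    refine ⟨fun i hi => by rw [map_add, ha i hi, hb i hi], fun i hi => ?_⟩
    rw [map_add, ha' i hi, hb' i hi, neg_add]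
  zero_mem' := ⟨fun i _ => map_zero _, fun i _ => by rw [map_zero, neg_zero]⟩
  smul_mem' := by
    rintro c v ⟨hv, hv'⟩
    refine ⟨fun i hi => by rw [map_smul, hv i hi], fun i hi => ?_⟩
    rw [map_smul, hv' i hi, smul_neg]

theorem mem_RR {P M : Finset (Fin 4)} {v : V} :
    v ∈ RR ρ y P M ↔ (∀ i ∈ P, ρ (y i) v = v) ∧ ∀ i ∈ M, ρ (y i) v = -v := Iff.rfl

theorem comm_v {i j : Fin 4} (hy : ∀ i, y i ∈ K i)
    (hc : ∀ i j, i ≠ j → ∀ a ∈ K i, ∀ b ∈ K j, a * b = b * a) (hij : i ≠ j) {k : G} (hk : k ∈ K i) (v : V) :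
    ρ (y j) (ρ k v) = ρ k (ρ (y j) v) := by
  rw [← rho_mul, ← rho_mul, hc i j hij k hk _ (hy j)]

/-- **four components are impossible, first case** -/
theorem no_four_pos [FiniteDimensional F V] (h2 : (2 : F) ≠ 0) (hV : finrank F V ≤ 8)
    (hQ : ∀ i, Qs π (K i)) (hc : ∀ i j, i ≠ j → ∀ a ∈ K i, ∀ b ∈ K j, a * b = b * a) (hy : ∀ i, y i ∈ K i)
    (hy1 : ∀ i, π (y i) ≠ 1) (hker : ∀ g, (∀ v, ρ g v = v) → π g = 1)
    (hsq : ∀ i v, ρ (y i) (ρ (y i) v) = v) : False := by
  have hiv : ∀ (P M : Finset (Fin 4)) (l : Fin 4), l ∉ P → l ∉ M → Iv ρ (K l) (RR ρ y P M) := by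
    intro P M l hP hM k hk v hv
    refine ⟨fun i hi => ?_, fun i hi => ?_⟩
    · rw [comm_v hy hc (fun h => hP (by rw [h]; exact hi)) hk, hv.1 i hi]
    · rw [comm_v hy hc (fun h => hM (by rw [h]; exact hi)) hk, hv.2 i hi, map_neg]
  have hcy : ∀ i j (v : V), ρ (y i) (ρ (y j) v) = ρ (y j) (ρ (y i) v) := by
    intro i j v
    by_cases hij : i = j
    · rw [hij]
    · exact comm_v hy hc (Ne.symm hij) (hy j) v
  have key : ∀ (P M : Finset (Fin 4)) (l : Fin 4), l ∉ P → l ∉ M → RR ρ y P M ≠ ⊥ → RR ρ y (insert l P) M ≠ ⊥ := by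
    intro P M l hP hM hne h0
    apply hne
    have h1 : ∀ v ∈ RR ρ y P M, ρ (y l) v = -v := by
      intro v hv
      have h3 : v + ρ (y l) v ∈ RR ρ y (insert l P) M := by
        refine ⟨fun i hi => ?_, fun i hi => ?_⟩
        · rcases Finset.mem_insert.1 hi with rfl | hi
          · rw [map_add, hsq, add_comm]
          · rw [map_add, hcy, hv.1 i hi]
        · rw [map_add, hcy, hv.2 i hi, map_neg, neg_add]
      rw [h0, Submodule.mem_bot] at h3
      exact eq_neg_of_add_eq_zero_right h3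
    have h3 : Tv ρ (K l) (RR ρ y P M) := (hQ l).tv_of_comm (hiv P M l hP hM) (hy l) (hy1 l) fun k hk u hu => by
      rw [h1 u hu, h1 _ (hiv P M l hP hM k hk u hu), map_neg]
    rw [eq_bot_iff]
    intro v hv
    rw [Submodule.mem_bot]
    apply two_zero h2
    rw [← h1 v hv]
    exact (h3 _ (hy l) v hv).symm
  have hm : ∀ i, RR ρ y ∅ {i} ≠ ⊥ := by
    intro i h0
    apply hy1 i
    apply hker
    intro v
    have h3 : v - ρ (y i) v ∈ RR ρ y ∅ {i} := by
      refine ⟨fun j hj => absurd hj (Finset.notMem_empty j), fun j hj => ?_⟩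
      rw [Finset.mem_singleton.1 hj, map_sub, hsq]
      abel
    rw [h0, Submodule.mem_bot] at h3
    exact (sub_eq_zero.1 h3).symm
  have hR : ∀ i, RR ρ y (Finset.univ.erase i) {i} ≠ ⊥ := by
    intro i
    have : ∀ P : Finset (Fin 4), i ∉ P → RR ρ y P {i} ≠ ⊥ := by
      intro P
      induction P using Finset.induction_on with
      | empty => exact fun _ => hm i
      | insert l P hl ih =>
        intro hi
        rw [Finset.mem_insert, not_or] at hi
        exact key P {i} l hl (fun h => hi.1 (Finset.mem_singleton.1 h).symm) (ih hi.2)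
    exact this _ (Finset.notMem_erase i _)
  have hM0 : RR ρ y Finset.univ ∅ ≠ ⊥ := by
    have h3 : RR ρ y (Finset.univ.erase 0) ∅ ≠ ⊥ := fun h0 => by
      apply hR 0
      rw [eq_bot_iff, ← h0]
      exact fun v hv => ⟨hv.1, fun j hj => absurd hj (Finset.notMem_empty j)⟩
    have h4 := key (Finset.univ.erase 0) ∅ 0 (Finset.notMem_erase _ _) (Finset.notMem_empty _) h3
    rwa [Finset.insert_erase (Finset.mem_univ _)] at h4
  have hd : ∀ i, 2 ≤ finrank F (RR ρ y (Finset.univ.erase i) {i}) := by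
    intro i
    have h3 : Even (finrank F (RR ρ y (Finset.univ.erase i) {i})) :=
      even_of_perfect h2 (hQ i).perf (hiv (Finset.univ.erase i) ∅ i (Finset.notMem_erase _ _) (Finset.notMem_empty _))
        (hy i) (fun u _ => hsq i u) fun v => by
          rw [mem_RR, mem_RR]
          constructor
          · rintro ⟨h4, h5⟩
            exact ⟨⟨h4, fun j hj => absurd hj (Finset.notMem_empty j)⟩, h5 i (Finset.mem_singleton_self i)⟩
          · rintro ⟨⟨h4, -⟩, h5⟩
            exact ⟨h4, fun j hj => by rw [Finset.mem_singleton.1 hj]; exact h5⟩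
    have h4 : finrank F (RR ρ y (Finset.univ.erase i) {i}) ≠ 0 := fun h0 => hR i (Submodule.finrank_eq_zero.1 h0)
    obtain ⟨c, hc⟩ := h3
    omega
  have hd0 : 1 ≤ finrank F (RR ρ y Finset.univ ∅) :=
    Nat.one_le_iff_ne_zero.2 fun h0 => hM0 (Submodule.finrank_eq_zero.1 h0)
  have hadd : ∀ (A C : Submodule F V) (i : Fin 4), (∀ v ∈ A, ρ (y i) v = v) → (∀ v ∈ C, ρ (y i) v = -v) →
      finrank F A + finrank F C = finrank F (A ⊔ C : Submodule F V) := by
    intro A C i hA hC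
    have h3 : A ⊓ C = ⊥ := by
      rw [eq_bot_iff]
      intro v hv
      rw [Submodule.mem_bot]
      apply two_zero h2
      rw [← hC v hv.2, hA v hv.1]
    have h4 := Submodule.finrank_sup_add_finrank_inf_eq A C
    rw [h3, finrank_bot, add_zero] at h4
    exact h4.symm
  have hfix : ∀ (A C : Submodule F V) (i : Fin 4), (∀ v ∈ A, ρ (y i) v = v) → (∀ v ∈ C, ρ (y i) v = v) →
      ∀ v ∈ A ⊔ C, ρ (y i) v = v := by
    intro A C i hA hC v hv
    obtain ⟨a, ha, c, hc', rfl⟩ := Submodule.mem_sup.1 hv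
    rw [map_add, hA a ha, hC c hc']
  have hRfix : ∀ i j, i ≠ j → ∀ v ∈ RR ρ y (Finset.univ.erase j) {j}, ρ (y i) v = v := fun i j hij v hv =>
    hv.1 i (Finset.mem_erase.2 ⟨hij, Finset.mem_univ _⟩)
  have hRneg : ∀ i, ∀ v ∈ RR ρ y (Finset.univ.erase i) {i}, ρ (y i) v = -v := fun i v hv =>
    hv.2 i (Finset.mem_singleton_self i)
  have h0fix : ∀ i, ∀ v ∈ RR ρ y Finset.univ ∅, ρ (y i) v = v := fun i v hv => hv.1 i (Finset.mem_univ _)
  have f1 := hadd _ (RR ρ y (Finset.univ.erase 0) {0}) 0 (h0fix 0) (hRneg 0)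
  have g1 := fun i (hi : i ≠ 0) => hfix _ _ i (h0fix i) (hRfix i 0 hi)
  have f2 := hadd _ (RR ρ y (Finset.univ.erase 1) {1}) 1 (g1 1 (by decide)) (hRneg 1)
  have g2 := fun i (hi : i ≠ 0) (hi' : i ≠ 1) => hfix _ _ i (g1 i hi) (hRfix i 1 hi')
  have f3 := hadd _ (RR ρ y (Finset.univ.erase 2) {2}) 2 (g2 2 (by decide) (by decide)) (hRneg 2)
  have g3 := fun i (hi : i ≠ 0) (hi' : i ≠ 1) (hi'' : i ≠ 2) => hfix _ _ i (g2 i hi hi') (hRfix i 2 hi'')
  have f4 := hadd _ (RR ρ y (Finset.univ.erase 3) {3}) 3 (g3 3 (by decide) (by decide) (by decide)) (hRneg 3)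
  have hle := Submodule.finrank_le (R := F) (M := V) (RR ρ y Finset.univ ∅ ⊔ RR ρ y (Finset.univ.erase 0) {0} ⊔
    RR ρ y (Finset.univ.erase 1) {1} ⊔ RR ρ y (Finset.univ.erase 2) {2} ⊔ RR ρ y (Finset.univ.erase 3) {3})
  have := hd 0
  have := hd 1
  have := hd 2
  have := hd 3
  omega

/-- joint eigenspaces of two operators -/
def R2 (u v : V →ₗ[F] V) (σ τ : F) : Submodule F V where
  carrier := {w | u w = σ • w ∧ v w = τ • w}
  add_mem' := by
    rintro a b ⟨ha, ha'⟩ ⟨hb, hb'⟩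
    exact ⟨by rw [map_add, ha, hb, smul_add], by rw [map_add, ha', hb', smul_add]⟩
  zero_mem' := ⟨by rw [map_zero, smul_zero], by rw [map_zero, smul_zero]⟩
  smul_mem' := by
    rintro c w ⟨hw, hw'⟩
    exact ⟨by rw [map_smul, hw, smul_comm], by rw [map_smul, hw', smul_comm]⟩

/-- **four components are impossible, second case** -/
theorem no_four_neg [FiniteDimensional F V] (h2 : (2 : F) ≠ 0) (hV : finrank F V ≤ 8) {B : LinearMap.BilinForm F V}
    (hs : ∀ u v, B u v = B v u) (hnd : ∀ u, (∀ v, B u v = 0) → u = 0)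
    (hB : ∀ (g : G) (u v : V), B (ρ g u) (ρ g v) = B u v)
    (hQ : ∀ i, Qs π (K i)) (hc : ∀ i j, i ≠ j → ∀ a ∈ K i, ∀ b ∈ K j, a * b = b * a) (hy : ∀ i, y i ∈ K i)
    (hy1 : ∀ i, π (y i) ≠ 1) (hker : ∀ g, (∀ v, ρ g v = v) → π g = 1)
    (hsq : ∀ i v, ρ (y i) (ρ (y i) v) = -v) : False := by
  have hcy : ∀ i j (v : V), ρ (y i) (ρ (y j) v) = ρ (y j) (ρ (y i) v) := by
    intro i j v
    by_cases hij : i = j
    · rw [hij]
    · exact comm_v hy hc (Ne.symm hij) (hy j) v
  -- the involutions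
  obtain ⟨u, hu⟩ : ∃ u : V →ₗ[F] V, ∀ w, u w = ρ (y 1) (ρ (y 2) w) := ⟨ρ (y 1) ∘ₗ ρ (y 2), fun w => rfl⟩
  obtain ⟨v, hv⟩ : ∃ v : V →ₗ[F] V, ∀ w, v w = ρ (y 2) (ρ (y 3) w) := ⟨ρ (y 2) ∘ₗ ρ (y 3), fun w => rfl⟩
  have huu : ∀ w, u (u w) = w := fun w => by
    rw [hu, hu, hcy 2 1, hsq, hsq, neg_neg]
  have hvv : ∀ w, v (v w) = w := fun w => by
    rw [hv, hv, hcy 3 2, hsq, hsq, neg_neg]
  have huv : ∀ w, u (v w) = v (u w) := fun w => by
    rw [hu, hv, hv, hu, hcy 3 1, hcy 2 1, hcy 3 2]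
  have huB : ∀ a b, B (u a) b = B a (u b) := fun a b => by
    have h3 : B (u a) (u (u b)) = B a (u b) := by
      rw [hu a, hu (u b), hB, hB]
    rwa [huu] at h3
  have hvB : ∀ a b, B (v a) b = B a (v b) := fun a b => by
    have h3 : B (v a) (v (v b)) = B a (v b) := by
      rw [hv a, hv (v b), hB, hB]
    rwa [hvv] at h3
  have huk : ∀ k ∈ K 0, ∀ w, u (ρ k w) = ρ k (u w) := fun k hk w => by
    rw [hu, hu, comm_v hy hc (by decide : (0 : Fin 4) ≠ 2) hk, comm_v hy hc (by decide : (0 : Fin 4) ≠ 1) hk]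
  have hvk : ∀ k ∈ K 0, ∀ w, v (ρ k w) = ρ k (v w) := fun k hk w => by
    rw [hv, hv, comm_v hy hc (by decide : (0 : Fin 4) ≠ 3) hk, comm_v hy hc (by decide : (0 : Fin 4) ≠ 2) hk]
  have huk3 : ∀ k ∈ K 3, ∀ w, u (ρ k w) = ρ k (u w) := fun k hk w => by
    rw [hu, hu, comm_v hy hc (by decide : (3 : Fin 4) ≠ 2) hk, comm_v hy hc (by decide : (3 : Fin 4) ≠ 1) hk]
  -- `-1` acts
  have hno : ∀ (i : Fin 4) (U : Submodule F V), Tv ρ (K i) U → U = ⊥ := fun i U hU => by
    rw [eq_bot_iff]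
    intro w hw
    rw [Submodule.mem_bot]
    apply two_zero h2
    have h3 := hsq i w
    rw [hU _ (hy i) w hw, hU _ (hy i) w hw] at h3
    exact h3
  -- eigenspaces of `u`
  have h1 : ∀ σ : F, σ * σ = 1 → ∃ w, u w = σ • w ∧ w ≠ 0 := by
    intro σ hσ
    by_contra hcon
    push Not at hcon
    have h3 : ∀ w, u w = -(σ • w) := by
      intro w
      have h4 := hcon (w + σ • u w) (by
        rw [map_add, map_smul, huu, smul_add, smul_smul, hσ, one_smul, add_comm])
      have h5 : σ • (w + σ • u w) = 0 := by rw [h4, smul_zero]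
      rw [smul_add, smul_smul, hσ, one_smul] at h5
      exact (neg_eq_of_add_eq_zero_right h5).symm
    have h4 : ∀ w, ρ (y 1) w = σ • ρ (y 2) w := by
      intro w
      have h5 := h3 (ρ (y 2) w)
      rw [hu, hsq, map_neg] at h5
      exact neg_injective h5
    have h5 : Tv ρ (K 1) (⊤ : Submodule F V) := (hQ 1).tv_of_comm (fun _ _ _ _ => trivial) (hy 1) (hy1 1)
      fun k hk w _ => by
        rw [h4, h4, map_smul, comm_v hy hc (by decide : (1 : Fin 4) ≠ 2) hk]
    exact hy1 1 (hker _ fun w => h5 _ (hy 1) w trivial)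
  have h3 : ∀ σ τ : F, σ * σ = 1 → τ * τ = 1 → R2 u v σ τ ≠ ⊥ := by
    intro σ τ hσ hτ h0
    obtain ⟨U, hU⟩ : ∃ U : Submodule F V, ∀ w, w ∈ U ↔ u w = σ • w :=
      ⟨LinearMap.ker (u - σ • LinearMap.id), fun w => by
        rw [LinearMap.mem_ker, LinearMap.sub_apply, LinearMap.smul_apply, LinearMap.id_apply, sub_eq_zero]⟩
    have h4 : ∀ w ∈ U, v w = -(τ • w) := by
      intro w hw
      have h5 : w + τ • v w ∈ R2 u v σ τ := by
        refine ⟨?_, ?_⟩
        · rw [map_add, map_smul, huv, (hU w).1 hw, map_smul, smul_add, smul_comm]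
        · rw [map_add, map_smul, hvv, smul_add, smul_smul, hτ, one_smul, add_comm]
      rw [h0, Submodule.mem_bot] at h5
      have h6 : τ • (w + τ • v w) = 0 := by rw [h5, smul_zero]
      rw [smul_add, smul_smul, hτ, one_smul] at h6
      exact (neg_eq_of_add_eq_zero_right h6).symm
    have hUi : Iv ρ (K 3) U := fun k hk w hw => by
      rw [hU, huk3 k hk, (hU w).1 hw, map_smul]
    have h5 : ∀ w ∈ U, ρ (y 3) w = τ • ρ (y 2) w := by
      intro w hw
      have h6 : ρ (y 2) w ∈ U := by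
        rw [hU, hu, hcy 2 2, hcy 1 2, ← hu, (hU w).1 hw, map_smul]
      have h7 := h4 _ h6
      rw [hv, hcy 2 3, hsq, map_neg] at h7
      exact neg_injective h7
    have h6 : Tv ρ (K 3) U := (hQ 3).tv_of_comm hUi (hy 3) (hy1 3) fun k hk w hw => by
      rw [h5 w hw, h5 _ (hUi k hk w hw), map_smul, comm_v hy hc (by decide : (3 : Fin 4) ≠ 2) hk]
    have h7 := hno 3 U h6
    obtain ⟨w, hw, hw0⟩ := h1 σ hσ
    apply hw0
    have : w ∈ U := (hU w).2 hw
    rwa [h7, Submodule.mem_bot] at this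
  -- one of them is small
  have hdis : ∀ (f : V →ₗ[F] V) (A C : Submodule F V), (∀ w ∈ A, f w = w) → (∀ w ∈ C, f w = -w) →
      finrank F A + finrank F C = finrank F (A ⊔ C : Submodule F V) := by
    intro f A C hA hC
    have h3 : A ⊓ C = ⊥ := by
      rw [eq_bot_iff]
      intro v hv
      rw [Submodule.mem_bot]
      apply two_zero h2
      rw [← hC v hv.2, hA v hv.1]
    have h4 := Submodule.finrank_sup_add_finrank_inf_eq A C
    rw [h3, finrank_bot, add_zero] at h4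
    exact h4.symm
  have hpp : ∀ w ∈ R2 u v 1 1 ⊔ R2 u v 1 (-1), u w = w := by
    intro w hw
    obtain ⟨a, ha, c, hc', rfl⟩ := Submodule.mem_sup.1 hw
    rw [map_add, ha.1, hc'.1, one_smul, one_smul]
  have hmm : ∀ w ∈ R2 u v (-1) 1 ⊔ R2 u v (-1) (-1), u w = -w := by
    intro w hw
    obtain ⟨a, ha, c, hc', rfl⟩ := Submodule.mem_sup.1 hw
    rw [map_add, ha.1, hc'.1, neg_one_smul, neg_one_smul, neg_add]
  have d1 := hdis v (R2 u v 1 1) (R2 u v 1 (-1)) (fun w hw => by rw [hw.2, one_smul])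
    (fun w hw => by rw [hw.2, neg_one_smul])
  have d2 := hdis v (R2 u v (-1) 1) (R2 u v (-1) (-1)) (fun w hw => by rw [hw.2, one_smul])
    (fun w hw => by rw [hw.2, neg_one_smul])
  have d3 := hdis u _ _ hpp hmm
  have hle := Submodule.finrank_le (R := F) (M := V) (R2 u v 1 1 ⊔ R2 u v 1 (-1) ⊔ (R2 u v (-1) 1 ⊔ R2 u v (-1) (-1)))
  have hfin : ∀ σ τ : F, σ * σ = 1 → τ * τ = 1 → 2 < finrank F (R2 u v σ τ) := by
    intro σ τ hσ hτ
    by_contra hcon
    push Not at hcon
    apply h3 σ τ hσ hτ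
    apply hno 0
    refine tv_of_two (K := K 0) h2 hs hB (hQ 0).perf ?_ ?_ hcon
    · intro k hk w hw
      exact ⟨by rw [huk k hk, hw.1, map_smul], by rw [hvk k hk, hw.2, map_smul]⟩
    · intro w hw h0
      apply hnd
      intro t
      -- the projection of `t`
      have h4 : (t + σ • u t) + τ • v (t + σ • u t) ∈ R2 u v σ τ := by
        have h5 : u (t + σ • u t) = σ • (t + σ • u t) := by
          rw [map_add, map_smul, huu, smul_add, smul_smul, hσ, one_smul, add_comm]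
        obtain ⟨s, hs'⟩ : ∃ s, s = t + σ • u t := ⟨_, rfl⟩
        rw [← hs'] at h5 ⊢
        refine ⟨?_, ?_⟩
        · rw [map_add, map_smul, huv, h5, map_smul, smul_add, smul_comm]
        · rw [map_add, map_smul, hvv, smul_add, smul_smul, hτ, one_smul, add_comm]
      have h5 := h0 _ h4
      have hwu : ∀ s, B w (u s) = σ * B w s := fun s => by
        rw [← huB, hw.1, map_smul, LinearMap.smul_apply, smul_eq_mul]
      have hwv : ∀ s, B w (v s) = τ * B w s := fun s => by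
        rw [← hvB, hw.2, map_smul, LinearMap.smul_apply, smul_eq_mul]
      rw [map_add, map_smul, hwv, map_add, map_smul, hwu, smul_eq_mul, smul_eq_mul] at h5
      have h6 : (2 * 2) * B w t = 0 := by
        linear_combination h5 - (B w t + τ * τ * B w t) * (hσ) - 2 * B w t * hτ
      exact (mul_eq_zero.1 h6).resolve_left (mul_ne_zero h2 h2)
  have := hfin 1 1 (one_mul 1) (one_mul 1)
  have := hfin 1 (-1) (one_mul 1) (by ring)
  have := hfin (-1) 1 (by ring) (one_mul 1)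
  have := hfin (-1) (-1) (by ring) (by ring)
  omega

end

end Cfsg.Agent.H1.D4
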