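import Cfsg.Agent.H1.D4.CaseTwo

/-!
# S4311, box C1: two components are impossible, conclusion (helper1)
-/

set_option autoImplicit false
set_option linter.unusedSectionVars false

namespace Cfsg.Agent.H1.D4

open Module Subgroup Cfsg.Agent.Lib.MinNormal Cfsg.Agent.Lib.MinNormalNonabelian

variable {F : Type*} [Field F] {V : Type*} [AddCommGroup V] [Module F V] {G : Type*} [Group G] [Finite G]
  {X : Type*} [Group X] [Finite X] {ρ : Representation F G V} {B : LinearMap.BilinForm F V} {f : G →* X}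
  {N T₁ T₂ : Subgroup X} {J : Type*} [Fintype J] [DecidableEq J] {e : J → V}

theorem no_two_aux (h : Cx ρ B f) (hS : Soc N {T₁, T₂}) (hne : T₁ ≠ T₂) (he : Fr ρ B e) {x : G} (hx3 : x ^ 3 = 1)
    (hxr : finrank F (rg ρ x) ≤ 2) (hxa : ∃ a ∈ T₁, f x * a ≠ a * f x) : False := by
  have := h.fd
  have m1 : T₁ ∈ ({T₁, T₂} : Set (Subgroup X)) := Or.inl rfl
  have m2 : T₂ ∈ ({T₁, T₂} : Set (Subgroup X)) := Or.inr rfl
  have hQ₁ := h.qs hS m1
  have hQ₂ := h.qs hS m2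
  have hc : ∀ a ∈ kt f T₁, ∀ b ∈ kt f T₂, a * b = b * a := kt_comm h.hcen (hS.comm _ m1 _ m2 hne)
  have hfx : f x ^ 3 = 1 := by rw [← map_pow, hx3, map_one]
  obtain ⟨hx₁', hx₂'⟩ := perm3 hS hne hfx
  have key : ∀ {g : G} {S T : Subgroup X}, S.map (MulAut.conj (f g)).toMonoidHom = T →
      ∀ k ∈ kt f S, g * k * g⁻¹ ∈ kt f T :=
    fun h => kt_conj fun s hs => by rw [← h]; exact ⟨s, hs, rfl⟩
  obtain ⟨a, ha, hab⟩ := hxa
  obtain ⟨a', ha', rfl⟩ := lift_of h.surj (hS.perf _ m1) ha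
  have hb1 : f (x * a' * x⁻¹ * a'⁻¹) ≠ 1 := by
    intro h1
    rw [map_mul, map_mul, map_mul, map_inv, map_inv, mul_inv_eq_one, mul_inv_eq_iff_eq_mul] at h1
    exact hab h1
  obtain ⟨y, hy⟩ := hS.conj _ m1 _ m2
  obtain ⟨g, rfl⟩ := h.surj y
  have hg' : T₂.map (MulAut.conj (f g⁻¹)).toMonoidHom = T₁ := by
    rw [hy, map_conj_map_conj, map_inv, inv_mul_cancel, map_conj_one]
  have hinv : ∀ g : G, ∀ v ∈ cm ρ (kt f T₁) ⊔ cm ρ (kt f T₂), ρ g v ∈ cm ρ (kt f T₁) ⊔ cm ρ (kt f T₂) := by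
    intro g v hv
    obtain ⟨u, hu, w, hw, rfl⟩ := Submodule.mem_sup.1 hv
    rw [map_add]
    rcases kt_perm (f := f) hS hne g with ⟨h1, h2⟩ | ⟨h1, h2⟩
    · exact Submodule.add_mem _ (Submodule.mem_sup_left (cm_map h1 hu)) (Submodule.mem_sup_right (cm_map h2 hw))
    · exact Submodule.add_mem _ (Submodule.mem_sup_right (cm_map h1 hu)) (Submodule.mem_sup_left (cm_map h2 hw))
  have hne0 : cm ρ (kt f T₁) ⊔ cm ρ (kt f T₂) ≠ ⊥ := by
    intro h0
    have h1 : cm ρ (kt f T₁) = ⊥ := eq_bot_iff.2 (le_sup_left.trans h0.le)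
    apply hb1
    rw [h.ker]
    left
    have hk : x * a' * x⁻¹ * a'⁻¹ ∈ kt f T₁ := (kt f T₁).mul_mem (key hx₁' _ ha') ((kt f T₁).inv_mem ha')
    intro v
    have h3 := cm_mem (ρ := ρ) hk v
    rw [h1, Submodule.mem_bot, sub_eq_zero] at h3
    exact h3
  have htop := he.irr h.h2 hinv hne0
  obtain ⟨hA4, hD4, hinf, hperp⟩ := pair_final h.h2 h.dim h.symm h.nd h.inv (fun z hz g => h.hcen z hz g) hQ₁ hQ₂ hc
    (key hx₁') (key hx₂') hxr (h.ss x) (fun k _ => h.ss k) ha' hb1 (key hy.symm)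
    (fun k hk => by have := key hg' k hk; rwa [inv_inv] at this) htop
  obtain ⟨A, hA⟩ : ∃ A, A = cm ρ (kt f T₁) := ⟨_, rfl⟩
  obtain ⟨D, hD⟩ : ∃ D, D = cm ρ (kt f T₂) := ⟨_, rfl⟩
  rw [← hA] at hA4 hinf hperp htop
  rw [← hD] at hD4 hinf hperp htop
  have hM : ∀ j k, j ≠ k → ∀ v ∈ A, B (e j) v • e j + B (e k) v • e k ∈ A := by
    intro j k hjk v hv
    obtain ⟨t, ht⟩ := he.t j k hjk
    rcases kt_perm (f := f) hS hne t with ⟨h1, -⟩ | ⟨h1, -⟩
    · have h3 : ρ t v ∈ A := by rw [hA] at hv ⊢; exact cm_map h1 hv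
      have h4 := A.sub_mem hv h3
      rw [ht] at h4
      have h5 : v - (v - B (e j) v • e j - B (e k) v • e k) = B (e j) v • e j + B (e k) v • e k := by abel
      rwa [h5] at h4
    · exfalso
      let φ : A →ₗ[F] (F × F) := ((B (e j)).prod (B (e k))).comp A.subtype
      have h3 : LinearMap.ker φ ≠ ⊥ := by
        apply LinearMap.ker_ne_bot_of_finrank_lt
        rw [Module.finrank_prod, Module.finrank_self, hA4]
        norm_num
      obtain ⟨w, hw, hw0⟩ := Submodule.exists_mem_ne_zero_of_ne_bot h3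
      have h4 : B (e j) (w : V) = 0 := congrArg Prod.fst (LinearMap.mem_ker.1 hw)
      have h5 : B (e k) (w : V) = 0 := congrArg Prod.snd (LinearMap.mem_ker.1 hw)
      have h6 : ρ t (w : V) = w := by rw [ht, h4, h5, zero_smul, zero_smul, sub_zero, sub_zero]
      have h7 : ρ t (w : V) ∈ D := by
        rw [hD]
        refine cm_map h1 ?_
        rw [← hA]
        exact w.2
      rw [h6] at h7
      have h8 : (w : V) ∈ A ⊓ D := ⟨w.2, h7⟩
      rw [hinf, Submodule.mem_bot] at h8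
      exact hw0 (Subtype.ext h8)
  obtain ⟨z, hzA, hzD'⟩ := he.exists_neg h.h2 hM hA4
  have hzD : ∀ v ∈ D, ρ z v = v := fun v hv => hzD' v fun a ha => hperp a ha v hv
  -- `z` commutes with `K₁` and `K₂`
  have hcomm : ∀ k : G, (∀ v ∈ A, ρ k v ∈ A) → (∀ v ∈ D, ρ k v ∈ D) → z * k = k * z := by
    intro k hkA hkD
    refine h.eq fun v => ?_
    have hv : v ∈ A ⊔ D := by rw [htop]; exact Submodule.mem_top
    obtain ⟨u, hu, w, hw, rfl⟩ := Submodule.mem_sup.1 hv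
    rw [rho_mul, rho_mul, map_add, map_add, map_add, hzA u hu, hzD w hw, hzA _ (hkA u hu), hzD _ (hkD w hw), map_add,
      map_neg]
  have e1 : ∀ k ∈ kt f T₁, z * k = k * z := by
    intro k hk
    refine hcomm k (fun v hv => ?_) fun v hv => ?_
    · rw [hA] at hv ⊢
      exact cm_map (fun l hl => (kt f T₁).mul_mem ((kt f T₁).mul_mem hk hl) ((kt f T₁).inv_mem hk)) hv
    · rw [hD] at hv ⊢
      refine cm_map (fun l hl => ?_) hv
      rw [hc k hk l hl, mul_inv_cancel_right]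
      exact hl
  have e2 : ∀ k ∈ kt f T₂, z * k = k * z := by
    intro k hk
    refine hcomm k (fun v hv => ?_) fun v hv => ?_
    · rw [hA] at hv ⊢
      refine cm_map (fun l hl => ?_) hv
      rw [← hc l hl k hk, mul_inv_cancel_right]
      exact hl
    · rw [hD] at hv ⊢
      exact cm_map (fun l hl => (kt f T₂).mul_mem ((kt f T₂).mul_mem hk hl) ((kt f T₂).inv_mem hk)) hv
  have hfz : f z = 1 := by
    refine hS.comm_one (fun t ht => ?_) fun t ht => ?_
    · obtain ⟨k, hk, rfl⟩ := lift_of h.surj (hS.perf _ m1) ht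
      rw [← map_mul, e1 k hk, map_mul]
    · obtain ⟨k, hk, rfl⟩ := lift_of h.surj (hS.perf _ m2) ht
      rw [← map_mul, e2 k hk, map_mul]
  have hnt : ∀ U : Submodule F V, finrank F U = 4 → ∃ u ∈ U, u ≠ 0 := by
    intro U hU
    apply Submodule.exists_mem_ne_zero_of_ne_bot
    intro h0
    rw [h0, finrank_bot] at hU
    norm_num at hU
  rcases (h.ker z).1 hfz with h1 | h1
  · obtain ⟨u, hu, hu0⟩ := hnt A hA4
    have h3 := hzA u hu
    rw [h1] at h3
    exact hu0 (two_zero h.h2 h3)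
  · obtain ⟨u, hu, hu0⟩ := hnt D hD4
    have h3 := hzD u hu
    rw [h1] at h3
    exact hu0 (two_zero h.h2 h3.symm)

/-- **two components are impossible** -/
theorem no_two (h : Cx ρ B f) {s : Set (Subgroup X)} (hS : Soc N s) (hs2 : s.ncard = 2) (he : Fr ρ B e) {x : G}
    (hx3 : x ^ 3 = 1) (hxr : finrank F (rg ρ x) ≤ 2) (hx1 : f x ≠ 1) : False := by
  obtain ⟨T₁, T₂, hne, rfl⟩ := Set.ncard_eq_two.1 hs2
  by_cases h1 : ∃ a ∈ T₁, f x * a ≠ a * f x
  · exact no_two_aux h hS hne he hx3 hxr h1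
  · by_cases h3 : ∃ a ∈ T₂, f x * a ≠ a * f x
    · rw [Set.pair_comm] at hS
      exact no_two_aux h hS hne.symm he hx3 hxr h3
    · push Not at h1 h3
      exact hx1 (hS.comm_one h1 h3)

end Cfsg.Agent.H1.D4
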