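import Cfsg.Agent.H1.D4.Conc

/-!
# S4311, box C1: `O_r(X) = 1` (helper1)
-/

set_option autoImplicit false
set_option linter.unusedSectionVars false

namespace Cfsg.Agent.H1.D4

open Module QuadraticMap Cfsg.Agent.H167.OP Cfsg.Agent.H170.HL Cfsg.Agent.H170.HL.OmRow Cfsg.Agent.H556.Om
open Cfsg Subgroup Cfsg.Agent.H485.RV Cfsg.Agent.H561.RV Cfsg.Agent.H561.D4

/-- the Sylow subgroup of a central extension of an `r`-group -/
theorem exists_normal_lift {G X : Type*} [Group G] [Finite G] [Group X] {f : G →* X} (hf : Function.Surjective f)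
    (hcen : ∀ z, f z = 1 → ∀ g, z * g = g * z) {R : Subgroup X} {r : ℕ} (hr : r.Prime) (hR : R.Normal)
    (hRr : IsPGroup r R) (hne : R ≠ ⊥) : ∃ S : Subgroup G, S.Normal ∧ IsPGroup r S ∧ S ≠ ⊥ := by
  have := Fact.mk hr
  have : Finite X := Finite.of_surjective f hf
  have hfin : Finite R := inferInstance
  have hN : (R.comap f).Normal := hR.comap f
  have hRn : Group.IsNilpotent R := hRr.isNilpotent
  let φ : R.comap f →* R := (f.comp (R.comap f).subtype).codRestrict R fun x => x.2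
  have hker : φ.ker ≤ Subgroup.center (R.comap f) := by
    intro x hx
    rw [Subgroup.mem_center_iff]
    intro y
    have h1 : f (x : G) = 1 := congrArg Subtype.val hx
    exact Subtype.ext (hcen _ h1 y).symm
  have hnil : Group.IsNilpotent (R.comap f) := Subgroup.isNilpotent_of_ker_le_center φ hker
  obtain ⟨P⟩ : Nonempty (Sylow r (R.comap f)) := inferInstance
  have hPn : (P : Subgroup (R.comap f)).Normal := ((Group.isNilpotent_of_finite_tfae (G := R.comap f)).out 0 3 rfl rfl).1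
    hnil r inferInstance P
  have hPc : (P : Subgroup (R.comap f)).Characteristic := P.characteristic_of_normal hPn
  refine ⟨(P : Subgroup (R.comap f)).map (R.comap f).subtype, inferInstance, P.2.map _, ?_⟩
  intro h0
  rw [Subgroup.map_eq_bot_iff_of_injective _ (R.comap f).subtype_injective] at h0
  have h1 : r ∣ Nat.card R := by
    obtain ⟨n, hn⟩ := hRr.exists_card_eq
    have hn0 : n ≠ 0 := by
      rintro rfl
      rw [pow_zero] at hn
      exact hne (Subgroup.card_eq_one.1 hn)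
    rw [hn]
    exact dvd_pow_self r hn0
  have h2 : r ∣ Nat.card (R.comap f) := by
    refine h1.trans ?_
    have hs : Function.Surjective φ := by
      rintro ⟨x, hx⟩
      obtain ⟨g, rfl⟩ := hf x
      exact ⟨⟨g, hx⟩, rfl⟩
    exact Subgroup.card_dvd_of_surjective φ hs
  have h3 := P.dvd_card_of_dvd_card h2
  have h4 : Nat.card (P : Subgroup (R.comap f)) = 1 := by rw [h0]; exact Subgroup.card_bot
  have h5 : Nat.card P = 1 := h4
  rw [h5] at h3
  exact hr.one_lt.ne' (Nat.dvd_one.1 h3)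

variable {F : Type} [Field F] {ι : Type} [Fintype ι] [DecidableEq ι] {Q : QuadraticForm F (ι → F)}
  {H : Subgroup (Cfsg.Omega F (⇑Q))}

theorem normal_map {S : Subgroup H} (hS : S.Normal) : ∀ g ∈ H, ∀ n ∈ S.map H.subtype, g * n * g⁻¹ ∈ S.map H.subtype := by
  rintro g hg _ ⟨n, hn, rfl⟩
  have h1 : (⟨g, hg⟩ : H) * n * (⟨g, hg⟩ : H)⁻¹ ∈ S := hS.conj_mem n hn ⟨g, hg⟩
  have h2 : H.subtype ((⟨g, hg⟩ : H) * n * (⟨g, hg⟩ : H)⁻¹) = g * H.subtype n * g⁻¹ := by
    rw [map_mul, map_mul, map_inv, Subgroup.subtype_apply]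
  rw [← h2]
  exact Subgroup.mem_map_of_mem _ h1

theorem hO [Finite F] (h : HD H) (hn : ¬ NTwo H) (R : Subgroup (Xg H)) (r : ℕ) (hr : r.Prime) (hR : R.Normal)
    (hRr : IsPGroup r R) : R = ⊥ := by
  have hfin : Finite (Cfsg.Omega F (⇑Q)) := inferInstance
  by_contra hne
  apply hn
  by_cases h2 : r = 2
  · subst h2
    refine ⟨(R.comap (fH H)).map H.subtype, Subgroup.map_subtype_le _, ?_, normal_map (hR.comap _), ?_⟩
    · apply IsPGroup.map
      rintro ⟨x, hx⟩
      obtain ⟨k, hk⟩ := hRr ⟨fH H x, hx⟩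
      refine ⟨k + 1, Subtype.ext ?_⟩
      show x ^ 2 ^ (k + 1) = 1
      have h1 : fH H (x ^ 2 ^ k) = 1 := by
        rw [map_pow]
        exact congrArg Subtype.val hk
      have h3 : ∀ y : H, fH H y = 1 → y * y = 1 := by
        intro y hy
        refine (cxH h).inj _ fun v => ?_
        rw [rho_mul]
        rcases ((cxH h).ker y).1 hy with h4 | h4
        · rw [h4, h4]
        · rw [h4, h4, neg_neg]
      rw [pow_succ, pow_mul, pow_two]
      exact h3 _ h1
    · obtain ⟨⟨x, hxR⟩, hx1⟩ := (Subgroup.ne_bot_iff_exists_ne_one).1 hne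
      obtain ⟨g, rfl⟩ := (cxH h).surj x
      refine ⟨g, ⟨g, hxR, rfl⟩, fun hc => hx1 (Subtype.ext ?_)⟩
      exact (fH_one g).2 hc
  · obtain ⟨S, hS, hSr, hS1⟩ := exists_normal_lift (cxH h).surj (cxH h).hcen hr hR hRr hne
    refine r3 h.q8.gq h.q8.two (by rw [h.q8.dim]; norm_num) H (S.map H.subtype) r (HD.not_two h) h.char hr h2
      (Subgroup.map_subtype_le _) ?_ (hSr.map _) (normal_map hS)
    intro h0
    rw [Subgroup.map_eq_bot_iff_of_injective _ H.subtype_injective] at h0
    exact hS1 h0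

end Cfsg.Agent.H1.D4
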