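import Cfsg.Agent.H1.D4.Lin

/-!
# S4311, box C1: two components (helper1)

If `K₁`, `K₂` commute and an element `x` with `dim [V, x] ≤ 2` normalises both of them and does not centralise `K₁`, then
`K₁` is trivial on `[V, K₂]`, or `dim [V, K₂] ≤ 4` and `[V, K₂] ≤ [V, K₁]`.
-/

set_option autoImplicit false

namespace Cfsg.Agent.H1.D4

open Module

variable {F : Type*} [Field F] {V : Type*} [AddCommGroup V] [Module F V] {G : Type*} [Group G] {X : Type*} [Group X]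

/-- `[V, K]` -/
def cm (ρ : Representation F G V) (K : Subgroup G) : Submodule F V := Submodule.span F {w | ∃ k ∈ K, ∃ v, w = ρ k v - v}

/-- `[V, g]` -/
def rg (ρ : Representation F G V) (g : G) : Submodule F V := LinearMap.range (ρ g - LinearMap.id)

variable {ρ : Representation F G V} {π : G →* X}

theorem mem_rg {g : G} {w : V} : w ∈ rg ρ g ↔ ∃ v, ρ g v - v = w := Iff.rfl

theorem cm_mem {K : Subgroup G} {k : G} (hk : k ∈ K) (v : V) : ρ k v - v ∈ cm ρ K :=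
  Submodule.subset_span ⟨k, hk, v, rfl⟩

theorem rg_le_cm {K : Subgroup G} {k : G} (hk : k ∈ K) : rg ρ k ≤ cm ρ K := by
  rintro _ ⟨v, rfl⟩
  exact cm_mem hk v

/-- elements permuting commutators -/
theorem cm_map {K L : Subgroup G} {g : G} (h : ∀ k ∈ K, g * k * g⁻¹ ∈ L) {v : V} (hv : v ∈ cm ρ K) : ρ g v ∈ cm ρ L := by
  induction hv using Submodule.span_induction with
  | mem w hw =>
    obtain ⟨k, hk, u, rfl⟩ := hw
    have h1 : ρ g (ρ k u - u) = ρ (g * k * g⁻¹) (ρ g u) - ρ g u := by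
      rw [map_sub, ← rho_mul, ← rho_mul]
      congr 2
      congr 1
      group
    rw [h1]
    exact cm_mem (h k hk) _
  | zero => rw [map_zero]; exact Submodule.zero_mem _
  | add a b _ _ ha hb => rw [map_add]; exact Submodule.add_mem _ ha hb
  | smul c a _ ha => rw [map_smul]; exact Submodule.smul_mem _ _ ha

section form

variable {B : LinearMap.BilinForm F V}

/-- the fixed vectors are those orthogonal to the commutator -/
theorem fix_iff (hnd : ∀ u, (∀ v, B u v = 0) → u = 0) (hB : ∀ (g : G) (u v : V), B (ρ g u) (ρ g v) = B u v) {g : G}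
    {v : V} : ρ g v = v ↔ ∀ w, B v (ρ g w - w) = 0 := by
  constructor
  · intro h w
    rw [map_sub, sub_eq_zero]
    nth_rewrite 1 [← h]
    exact hB g v w
  · intro h
    have h1 : ρ g⁻¹ v - v = 0 := by
      apply hnd
      intro w
      have h3 := h w
      rw [map_sub, sub_eq_zero] at h3
      rw [map_sub, LinearMap.sub_apply, sub_eq_zero, ← h3]
      have h4 := hB g (ρ g⁻¹ v) w
      rw [rho_inv] at h4
      exact h4.symm
    have h3 := rho_inv (ρ := ρ) g v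
    rw [sub_eq_zero.1 h1] at h3
    exact h3

theorem orth_cm (hnd : ∀ u, (∀ v, B u v = 0) → u = 0) (hB : ∀ (g : G) (u v : V), B (ρ g u) (ρ g v) = B u v)
    {K : Subgroup G} {v : V} (h : ∀ k ∈ K, ρ k v = v) {u : V} (hu : u ∈ cm ρ K) : B v u = 0 := by
  induction hu using Submodule.span_induction with
  | mem w hw =>
    obtain ⟨k, hk, u, rfl⟩ := hw
    exact (fix_iff hnd hB).1 (h k hk) u
  | zero => rw [map_zero]
  | add a b _ _ ha hb => rw [map_add, ha, hb, add_zero]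
  | smul c a _ ha => rw [map_smul, ha, smul_zero]

/-- `[V, g]` is nondegenerate if `g` is semisimple -/
theorem nd_rg (hnd : ∀ u, (∀ v, B u v = 0) → u = 0) (hB : ∀ (g : G) (u v : V), B (ρ g u) (ρ g v) = B u v) {g : G}
    (hss : ∀ v, ρ g (ρ g v - v) = ρ g v - v → ρ g v = v) (u : V) (hu : u ∈ rg ρ g) (h : ∀ v ∈ rg ρ g, B u v = 0) :
    u = 0 := by
  obtain ⟨w, rfl⟩ := hu
  have h1 : ρ g (ρ g w - w) = ρ g w - w := (fix_iff hnd hB).2 fun v => h _ ⟨v, rfl⟩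
  have h3 := hss w h1
  change ρ g w - w = 0
  rw [h3, sub_self]

end form

/-- **the argument for two components** -/
theorem pair_aux [FiniteDimensional F V] (h2 : (2 : F) ≠ 0) {B : LinearMap.BilinForm F V}
    (hs : ∀ u v, B u v = B v u) (hnd : ∀ u, (∀ v, B u v = 0) → u = 0)
    (hB : ∀ (g : G) (u v : V), B (ρ g u) (ρ g v) = B u v) (hcen : ∀ z, π z = 1 → ∀ g, z * g = g * z)
    {K₁ K₂ : Subgroup G} (hQ₁ : Qs π K₁) (hQ₂ : Qs π K₂) (hc : ∀ a ∈ K₁, ∀ b ∈ K₂, a * b = b * a) {x a : G}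
    (hx₁ : ∀ k ∈ K₁, x * k * x⁻¹ ∈ K₁) (hx₂ : ∀ k ∈ K₂, x * k * x⁻¹ ∈ K₂) (hd : finrank F (rg ρ x) ≤ 2)
    (hssx : ∀ v, ρ x (ρ x v - v) = ρ x v - v → ρ x v = v)
    (hss : ∀ k ∈ K₁, ∀ v, ρ k (ρ k v - v) = ρ k v - v → ρ k v = v) (ha : a ∈ K₁)
    (hb1 : π (x * a * x⁻¹ * a⁻¹) ≠ 1) :
    (∀ k ∈ K₁, ∀ v ∈ cm ρ K₂, ρ k v = v) ∨ (finrank F (cm ρ K₂) ≤ 4 ∧ cm ρ K₂ ≤ cm ρ K₁) := by
  obtain ⟨b, hb⟩ : ∃ b, b = x * a * x⁻¹ * a⁻¹ := ⟨_, rfl⟩
  rw [← hb] at hb1
  have hbK : b ∈ K₁ := by rw [hb]; exact K₁.mul_mem (hx₁ a ha) (K₁.inv_mem ha)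
  have hcρ : ∀ k ∈ K₁, ∀ l ∈ K₂, ∀ v, ρ l (ρ k v) = ρ k (ρ l v) := fun k hk l hl v => by
    rw [← rho_mul, ← rho_mul, hc k hk l hl]
  -- the two subspaces
  obtain ⟨Cb, hCb⟩ : ∃ C : Submodule F V, ∀ v, v ∈ C ↔ ρ b v = v :=
    ⟨LinearMap.ker (ρ b - LinearMap.id), fun v => by
      rw [LinearMap.mem_ker, LinearMap.sub_apply, LinearMap.id_apply, sub_eq_zero]⟩
  obtain ⟨aW, haW⟩ : ∃ A : Submodule F V, A = (rg ρ x).map (ρ a) := ⟨_, rfl⟩
  have hiR : Iv ρ K₂ (rg ρ b) := by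
    rintro k hk _ ⟨v, rfl⟩
    exact ⟨ρ k v, by
      change ρ b (ρ k v) - ρ k v = ρ k (ρ b v - v)
      rw [map_sub, hcρ b hbK k hk]⟩
  have hiC : Iv ρ K₂ Cb := fun k hk v hv => by
    rw [hCb] at hv ⊢
    rw [← hcρ b hbK k hk, hv]
  have hxinv : ∀ v, ρ x⁻¹ v - v ∈ rg ρ x := fun v => by
    refine ⟨-(ρ x⁻¹ v), ?_⟩
    change ρ x (-(ρ x⁻¹ v)) - -(ρ x⁻¹ v) = _
    rw [map_neg, rho_inv]; abel
  have hyv : ∀ v, ρ (a * x⁻¹ * a⁻¹) v - v ∈ aW := fun v => by
    rw [haW]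
    refine ⟨_, hxinv (ρ a⁻¹ v), ?_⟩
    rw [map_sub, rho_inv, ← rho_mul, ← rho_mul, mul_assoc]
  have hbxy : b = x * (a * x⁻¹ * a⁻¹) := by rw [hb]; group
  have hRle : rg ρ b ≤ rg ρ x ⊔ aW := by
    rintro _ ⟨v, rfl⟩
    change ρ b v - v ∈ _
    have h3 : ρ b v - v = (ρ x (ρ (a * x⁻¹ * a⁻¹) v) - ρ (a * x⁻¹ * a⁻¹) v) + (ρ (a * x⁻¹ * a⁻¹) v - v) := by
      rw [hbxy, rho_mul]; abel
    rw [h3]
    exact Submodule.add_mem_sup ⟨_, rfl⟩ (hyv v)
  have hdaW : finrank F aW ≤ 2 := by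
    rw [haW]
    exact (Submodule.finrank_map_le _ _).trans hd
  have hd4 : finrank F (rg ρ b) ≤ 4 := by
    have h3 := Submodule.finrank_mono hRle
    have h4 := Submodule.finrank_add_le_finrank_add_finrank (rg ρ x) aW
    omega
  -- trivial on one of them
  have claimA : Tv ρ K₂ (rg ρ b) ∨ Tv ρ K₂ Cb := by
    by_cases hd2 : finrank F (rg ρ b) ≤ 2
    · exact Or.inl (tv_of_two h2 hs hB hQ₂.perf hiR (nd_rg hnd hB (hss b hbK)) hd2)
    have hCx : ∀ v ∈ Cb, ρ x v = v := by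
      by_cases hWW : rg ρ x ⊓ aW = ⊥
      · intro v hv
        rw [hCb, hbxy, rho_mul] at hv
        have h3 : ρ (a * x⁻¹ * a⁻¹) v = ρ x⁻¹ v := by
          have h4 := congrArg (ρ x⁻¹) hv
          rwa [inv_rho] at h4
        have h4 : ρ x⁻¹ v - v ∈ rg ρ x ⊓ aW := ⟨hxinv v, by rw [← h3]; exact hyv v⟩
        rw [hWW, Submodule.mem_bot] at h4
        have h5 := rho_inv (ρ := ρ) x v
        rw [sub_eq_zero.1 h4] at h5
        exact h5
      · have h3 := Submodule.finrank_sup_add_finrank_inf_eq (rg ρ x) aW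
        have h4 : finrank F (rg ρ x ⊓ aW : Submodule F V) ≠ 0 := fun h0 => hWW (Submodule.finrank_eq_zero.1 h0)
        have h5 : rg ρ b = rg ρ x ⊔ aW := Submodule.eq_of_le_of_finrank_le hRle (by omega)
        intro v hv
        rw [hCb] at hv
        refine (fix_iff hnd hB).2 fun w => ?_
        have h6 : ρ x w - w ∈ rg ρ b := by
          rw [h5]
          exact Submodule.mem_sup_left ⟨w, rfl⟩
        obtain ⟨w', hw'⟩ := h6
        have h7 := (fix_iff hnd hB).1 hv w'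
        change ρ b w' - w' = _ at hw'
        rw [hw'] at h7
        exact h7
    by_cases hcx : ∃ k ∈ K₂, π (x * k * x⁻¹ * k⁻¹) ≠ 1
    · obtain ⟨k, hk, hne⟩ := hcx
      right
      refine hQ₂.tv_of_one hiC (K₂.mul_mem (hx₂ k hk) (K₂.inv_mem hk)) hne fun v hv => ?_
      have h3 := hiC _ (K₂.inv_mem hk) v hv
      have h4 : ρ x⁻¹ (ρ k⁻¹ v) = ρ k⁻¹ v := by
        have h5 := inv_rho (ρ := ρ) x (ρ k⁻¹ v)
        rwa [hCx _ h3] at h5
      rw [rho_mul, rho_mul, rho_mul, h4, rho_inv, hCx v hv]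
    · push Not at hcx
      left
      -- `x` centralises `K₂`
      have hxk : ∀ k ∈ K₂, x * k = k * x := by
        let f : K₂ →* G :=
          { toFun := fun k => x * k * x⁻¹ * (k : G)⁻¹
            map_one' := by simp
            map_mul' := fun k l => by
              have h3 := hcen _ (hcx l l.2)
              calc x * ((k * l : K₂) : G) * x⁻¹ * ((k * l : K₂) : G)⁻¹ =
                  x * k * x⁻¹ * ((x * l * x⁻¹ * (l : G)⁻¹) * (k : G)⁻¹) := by
                    rw [Subgroup.coe_mul]; group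
                _ = _ := by rw [h3]; group }
        have h3 := perfect_hom hQ₂.perf f (fun k l => hcen _ (hcx k k.2) _)
        intro k hk
        have h4 : x * k * x⁻¹ * k⁻¹ = 1 := h3 ⟨k, hk⟩
        have h5 : x * k = (x * k * x⁻¹ * k⁻¹) * (k * x) := by group
        rw [h5, h4, one_mul]
      have hiW : Iv ρ K₂ (rg ρ x) := by
        rintro k hk _ ⟨v, rfl⟩
        refine ⟨ρ k v, ?_⟩
        change ρ x (ρ k v) - ρ k v = ρ k (ρ x v - v)
        rw [map_sub, ← rho_mul, ← rho_mul, hxk k hk]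
      have hTW : Tv ρ K₂ (rg ρ x) := tv_of_two h2 hs hB hQ₂.perf hiW (nd_rg hnd hB hssx) hd
      intro k hk v hv
      obtain ⟨p, hp, q, hq, rfl⟩ := Submodule.mem_sup.1 (hRle hv)
      rw [haW] at hq
      obtain ⟨w, hw, rfl⟩ := hq
      rw [map_add, hTW k hk p hp, hcρ a ha k hk, hTW k hk w hw]
  rcases claimA with hA | hA
  · left
    have hi : Iv ρ K₁ (cm ρ K₂) := fun k hk v hv => cm_map (fun l hl => by
      rw [hc k hk l hl, mul_inv_cancel_right]; exact hl) hv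
    refine hQ₁.tv_of_one hi hbK hb1 fun v hv => ?_
    induction hv using Submodule.span_induction with
    | mem w hw =>
      obtain ⟨k, hk, u, rfl⟩ := hw
      have h3 := hA k hk _ ⟨u, rfl⟩
      change ρ k (ρ b u - u) = ρ b u - u at h3
      rw [map_sub] at h3
      rw [map_sub, ← hcρ b hbK k hk]
      have h4 : ρ k (ρ b u) = ρ b u - u + ρ k u := by rw [← h3]; abel
      rw [h4]; abel
    | zero => rw [map_zero]
    | add a b _ _ ha hb => rw [map_add, ha, hb]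
    | smul c a _ ha => rw [map_smul, ha]
  · right
    have htop : Cb ⊔ rg ρ b = ⊤ := by
      apply Submodule.eq_top_of_disjoint
      · have h3 := LinearMap.finrank_range_add_finrank_ker (ρ b - LinearMap.id)
        have h4 : Cb = LinearMap.ker (ρ b - LinearMap.id) := by
          ext v
          rw [hCb, LinearMap.mem_ker, LinearMap.sub_apply, LinearMap.id_apply, sub_eq_zero]
        rw [h4, ← h3, add_comm]
        rfl
      · rw [Submodule.disjoint_def]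
        rintro v hv ⟨w, rfl⟩
        rw [hCb] at hv
        have h3 : ρ b (ρ b w - w) = ρ b w - w := hv
        have h4 := hss b hbK w h3
        change ρ b w - w = 0
        rw [h4, sub_self]
    have hle : cm ρ K₂ ≤ rg ρ b := by
      rw [cm, Submodule.span_le]
      rintro _ ⟨k, hk, v, rfl⟩
      have hv : v ∈ Cb ⊔ rg ρ b := by rw [htop]; trivial
      obtain ⟨p, hp, q, hq, rfl⟩ := Submodule.mem_sup.1 hv
      have h3 : ρ k (p + q) - (p + q) = ρ k q - q := by rw [map_add, hA k hk p hp]; abel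
      rw [h3]
      exact Submodule.sub_mem _ (hiR k hk q hq) hq
    exact ⟨(Submodule.finrank_mono hle).trans hd4, hle.trans (rg_le_cm hbK)⟩

/-- **two components**: `V` is the orthogonal sum of the two commutator spaces of dimension `4` -/
theorem pair_final [FiniteDimensional F V] (h2 : (2 : F) ≠ 0) (hV : finrank F V = 8) {B : LinearMap.BilinForm F V}
    (hs : ∀ u v, B u v = B v u) (hnd : ∀ u, (∀ v, B u v = 0) → u = 0)
    (hB : ∀ (g : G) (u v : V), B (ρ g u) (ρ g v) = B u v) (hcen : ∀ z, π z = 1 → ∀ g, z * g = g * z)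
    {K₁ K₂ : Subgroup G} (hQ₁ : Qs π K₁) (hQ₂ : Qs π K₂) (hc : ∀ a ∈ K₁, ∀ b ∈ K₂, a * b = b * a) {x a g : G}
    (hx₁ : ∀ k ∈ K₁, x * k * x⁻¹ ∈ K₁) (hx₂ : ∀ k ∈ K₂, x * k * x⁻¹ ∈ K₂) (hd : finrank F (rg ρ x) ≤ 2)
    (hssx : ∀ v, ρ x (ρ x v - v) = ρ x v - v → ρ x v = v)
    (hss : ∀ k ∈ K₁, ∀ v, ρ k (ρ k v - v) = ρ k v - v → ρ k v = v) (ha : a ∈ K₁)
    (hb1 : π (x * a * x⁻¹ * a⁻¹) ≠ 1) (hg : ∀ k ∈ K₁, g * k * g⁻¹ ∈ K₂) (hg' : ∀ k ∈ K₂, g⁻¹ * k * g ∈ K₁)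
    (htop : cm ρ K₁ ⊔ cm ρ K₂ = ⊤) :
    finrank F (cm ρ K₁) = 4 ∧ finrank F (cm ρ K₂) = 4 ∧ cm ρ K₁ ⊓ cm ρ K₂ = ⊥ ∧
      ∀ u ∈ cm ρ K₁, ∀ v ∈ cm ρ K₂, B u v = 0 := by
  have hm : cm ρ K₂ = (cm ρ K₁).map (ρ g) := by
    apply le_antisymm
    · intro v hv
      refine ⟨ρ g⁻¹ v, cm_map (fun k hk => ?_) hv, rho_inv g v⟩
      rw [inv_inv]; exact hg' k hk
    · rintro _ ⟨v, hv, rfl⟩
      exact cm_map hg hv
  have hinj : Function.Injective (ρ g) := fun u v h => by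
    rw [← inv_rho (ρ := ρ) g u, h, inv_rho]
  have hdd : finrank F (cm ρ K₂) = finrank F (cm ρ K₁) := by
    rw [hm]
    exact (Submodule.equivMapOfInjective (ρ g) hinj (cm ρ K₁)).finrank_eq.symm
  have h3 := Submodule.finrank_sup_add_finrank_inf_eq (cm ρ K₁) (cm ρ K₂)
  rw [htop, finrank_top, hV] at h3
  rcases pair_aux h2 hs hnd hB hcen hQ₁ hQ₂ hc hx₁ hx₂ hd hssx hss ha hb1 with h | ⟨h4, h5⟩
  · have horth : ∀ u ∈ cm ρ K₁, ∀ v ∈ cm ρ K₂, B u v = 0 := fun u hu v hv => by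
      rw [hs]
      exact orth_cm hnd hB (fun k hk => h k hk v hv) hu
    have hinf : cm ρ K₁ ⊓ cm ρ K₂ = ⊥ := by
      rw [eq_bot_iff]
      intro v hv
      rw [Submodule.mem_bot]
      apply hnd
      intro w
      have hw : w ∈ cm ρ K₁ ⊔ cm ρ K₂ := by rw [htop]; trivial
      obtain ⟨p, hp, q, hq, rfl⟩ := Submodule.mem_sup.1 hw
      rw [map_add, horth v hv.1 q hq, hs v p, horth p hp v hv.2, add_zero]
    rw [hinf, finrank_bot, add_zero, hdd] at h3
    exact ⟨by omega, by omega, hinf, horth⟩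
  · exfalso
    rw [sup_eq_left.2 h5] at htop
    rw [htop, finrank_top, hV] at hdd
    omega

end Cfsg.Agent.H1.D4
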